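import Cfsg.Agent.LieClassical.OrthTrans

/-!
# EV4 of S5719 (`PΩ^±_{2l}(q)`, `q` even): long root elements `ρ_{w,x}`, `ρ_{w,y}`, `B(x,y) ≠ 0` (helper881)
-/

set_option autoImplicit false
set_option linter.unusedSectionVars false

namespace Cfsg.Agent.H881.IFE

open QuadraticMap Module Subgroup Cfsg Cfsg.Agent.LieClassical.OrthCore Cfsg.Agent.LieClassical.OrthTrans

/-- a family of elements of `C(t)` moving `s` to pairwise different elements -/
theorem card_le_relIndex {G : Type*} [Group G] [Finite G] {ι : Type*} (s t : G) (f : ι → G)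
    (hf : ∀ i, f i * t = t * f i) (hinj : ∀ i j, f i * s * (f i)⁻¹ = f j * s * (f j)⁻¹ → i = j) :
    Nat.card ι ≤ (centralizer ({s} : Set G)).relIndex (centralizer ({t} : Set G)) := by
  let φ : ι → ↥(centralizer ({t} : Set G)) ⧸
      ((centralizer ({s} : Set G)).subgroupOf (centralizer ({t} : Set G))) := fun i =>
    QuotientGroup.mk ⟨f i, by rw [mem_centralizer_singleton_iff]; exact hf i⟩
  have hφ : Function.Injective φ := by
    intro i j hij
    apply hinj
    have h := QuotientGroup.eq.1 hij
    rw [mem_subgroupOf, mem_centralizer_singleton_iff] at h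
    have h' : (f i)⁻¹ * f j * s = s * ((f i)⁻¹ * f j) := h
    have h2 : f j * s = f i * s * (f i)⁻¹ * f j := by
      calc f j * s = f i * ((f i)⁻¹ * f j * s) := by group
        _ = f i * (s * ((f i)⁻¹ * f j)) := by rw [h']
        _ = f i * s * (f i)⁻¹ * f j := by group
    rw [h2]
    group
  rw [relIndex, index]
  exact Nat.card_le_card_of_injective φ hφ

section

variable {F V : Type*} [Field F] [AddCommGroup V] [Module F V] {Q : QuadraticForm F V}

/-- an isometry acting on `⟨w, x⟩` with determinant one commutes with `ρ_{w,x}` -/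
theorem siegel_comm {w x : V} (hw : Q w = 0) (hx : Q x = 0) (hwx : polar Q w x = 0)
    {k : V ≃ₗ[F] V} (hk : k ∈ O Q) {α β γ δ : F} (h1 : k w = α • w + β • x)
    (h2 : k x = γ • w + δ • x) (hd : α * δ - β * γ = 1) :
    k * siegel Q w x hw hwx * k⁻¹ = siegel Q w x hw hwx := by
  rw [siegel_conj hk hw hwx (by rw [mem_O.1 hk]; exact hw) (by rw [polar_map hk]; exact hwx)]
  ext v
  rw [siegel_apply, siegel_apply, mem_O.1 hk, h1, h2, hx]
  simp only [polar_add_left, polar_smul_left, smul_eq_mul]
  match_scalars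
  · ring
  · linear_combination (-(polar Q x v)) * hd
  · linear_combination (polar Q w v) * hd

/-- the elements of `E Q` act on a totally singular line as `SL₂`: transitivity on nonzero vectors -/
theorem exists_sl {w x w' x' : V} (hw : Q w = 0) (hx : Q x = 0) (hwx : polar Q w x = 0)
    (h1 : polar Q x w' = 0) (h2 : polar Q w w' = 1) (h3 : polar Q w x' = 0) (h4 : polar Q x x' = 1)
    (α β : F) (h0 : α ≠ 0 ∨ β ≠ 0) :
    ∃ g ∈ E Q, ∃ γ δ : F, g w = α • w + β • x ∧ g x = γ • w + δ • x ∧ α * δ - β * γ = 1 := by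
  have hww : polar Q w w = 0 := polar_self_of_sing hw
  have hxx : polar Q x x = 0 := polar_self_of_sing hx
  have hxw : polar Q x w = 0 := by rw [polar_comm]; exact hwx
  have h1' : polar Q w' x = 0 := by rw [polar_comm]; exact h1
  have h2' : polar Q w' w = 1 := by rw [polar_comm]; exact h2
  have h3' : polar Q x' w = 0 := by rw [polar_comm]; exact h3
  have h4' : polar Q x' x = 1 := by rw [polar_comm]; exact h4
  have hU : ∀ c : F, polar Q w (c • x') = 0 := fun c => by rw [polar_smul_right, h3, smul_zero]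
  have hL : ∀ c : F, polar Q x (c • w') = 0 := fun c => by rw [polar_smul_right, h1, smul_zero]
  -- the two root subgroups
  have u1 : ∀ c : F, siegel Q w (c • x') hw (hU c) w = w := by
    intro c
    rw [siegel_apply, hww, polar_smul_left, h3']
    simp
  have u2 : ∀ c : F, siegel Q w (c • x') hw (hU c) x = x - c • w := by
    intro c
    rw [siegel_apply, hwx, polar_smul_left, h4']
    simp
  have l1 : ∀ c : F, siegel Q x (c • w') hx (hL c) x = x := by
    intro c
    rw [siegel_apply, hxx, polar_smul_left, h1']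
    simp
  have l2 : ∀ c : F, siegel Q x (c • w') hx (hL c) w = w - c • x := by
    intro c
    rw [siegel_apply, hxw, polar_smul_left, h2']
    simp
  by_cases hβ : β = 0
  · have hα : α ≠ 0 := by
      rcases h0 with h | h
      · exact h
      · exact absurd hβ h
    subst hβ
    refine ⟨siegel Q x (α⁻¹ • w') hx (hL _) * (siegel Q w ((1 - α) • x') hw (hU _) *
      siegel Q x ((-1 : F) • w') hx (hL _)), E_mul (siegel_mem_E _ _) (E_mul (siegel_mem_E _ _)
      (siegel_mem_E _ _)), α - 1, α⁻¹, ?_, ?_, ?_⟩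
    · show siegel Q x (α⁻¹ • w') hx (hL _) (siegel Q w ((1 - α) • x') hw (hU _)
        (siegel Q x ((-1 : F) • w') hx (hL _) w)) = _
      rw [l2, map_sub, map_smul, u1, u2, map_sub, map_smul, map_sub, map_smul, l1, l2]
      match_scalars
      · ring
      · field_simp
        ring
    · show siegel Q x (α⁻¹ • w') hx (hL _) (siegel Q w ((1 - α) • x') hw (hU _)
        (siegel Q x ((-1 : F) • w') hx (hL _) x)) = _
      rw [l1, u2, map_sub, map_smul, l1, l2]
      match_scalars
      · field_simp
        ring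
      · ring
    · field_simp
      ring
  · refine ⟨siegel Q w ((β⁻¹ * (1 - α)) • x') hw (hU _) * siegel Q x ((-β) • w') hx (hL _),
      E_mul (siegel_mem_E _ _) (siegel_mem_E _ _), -(β⁻¹ * (1 - α)), 1, ?_, ?_, ?_⟩
    · show siegel Q w ((β⁻¹ * (1 - α)) • x') hw (hU _) (siegel Q x ((-β) • w') hx (hL _) w) = _
      rw [l2, map_sub, map_smul, u1, u2]
      match_scalars
      · field_simp
        ring
      · ring
    · show siegel Q w ((β⁻¹ * (1 - α)) • x') hw (hU _) (siegel Q x ((-β) • w') hx (hL _) x) = _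
      rw [l1, u2]
      match_scalars
      · ring
      · ring
    · field_simp
      ring

/-- the value of `k ρ_{w,y} k⁻¹` on `w` and `x` -/
theorem conj_val {w x y : V} (hw : Q w = 0) (hx : Q x = 0) (hy : Q y = 0) (hwx : polar Q w x = 0)
    (hwy : polar Q w y = 0) {k : V ≃ₗ[F] V} (hk : k ∈ O Q) {α β γ δ : F}
    (h1 : k w = α • w + β • x) (h2 : k x = γ • w + δ • x) (hd : α * δ - β * γ = 1) :
    (k * siegel Q w y hw hwy * k⁻¹) w = w + (β * polar Q x y) • (α • w + β • x) ∧
    (k * siegel Q w y hw hwy * k⁻¹) x = x - (α * polar Q x y) • (α • w + β • x) := by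
  have hww : polar Q w w = 0 := polar_self_of_sing hw
  have hxx : polar Q x x = 0 := polar_self_of_sing hx
  have hxw : polar Q x w = 0 := by rw [polar_comm]; exact hwx
  have hyw : polar Q y w = 0 := by rw [polar_comm]; exact hwy
  have e1 : k (δ • w - β • x) = w := by
    rw [map_sub, map_smul, map_smul, h1, h2]
    match_scalars
    · linear_combination hd
    · ring
  have e2 : k (-(γ • w) + α • x) = x := by
    rw [map_add, map_neg, map_smul, map_smul, h1, h2]
    match_scalars
    · ring
    · linear_combination hd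
  have p1 : polar Q (k y) w = -(β * polar Q x y) := by
    nth_rewrite 1 [← e1]
    rw [polar_map hk, polar_sub_right, polar_smul_right, polar_smul_right, hyw, polar_comm Q y x]
    simp
  have p2 : polar Q (k y) x = α * polar Q x y := by
    nth_rewrite 1 [← e2]
    rw [polar_map hk, polar_add_right, polar_neg_right, polar_smul_right, polar_smul_right, hyw,
      polar_comm Q y x]
    simp
  rw [siegel_conj hk hw hwy (by rw [mem_O.1 hk]; exact hw) (by rw [polar_map hk]; exact hwy)]
  constructor
  · rw [siegel_apply, p1, mem_O.1 hk, hy, h1, polar_add_left, polar_smul_left, polar_smul_left,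
      hww, hxw]
    simp only [smul_zero, zero_mul, add_zero, zero_smul, sub_zero, neg_smul, sub_neg_eq_add]
  · rw [siegel_apply, p2, mem_O.1 hk, hy, h1, polar_add_left, polar_smul_left, polar_smul_left,
      hwx, hxx]
    simp

end

/-- EV4. long root elements `t = ρ_{w,x}`, `s = ρ_{w,y}` with `B(x,y) ≠ 0` -/
theorem relIndex_nonperp {F V : Type*} [Field F] [Fintype F] [CharP F 2] [AddCommGroup V] [Module F V] [Fintype V]
    {Q : QuadraticForm F V} (hG : Good Q) {l : ℕ} (hl : 4 ≤ l) (hd : finrank F V = 2 * l) {w x y : V}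
    (hw : Q w = 0) (hx : Q x = 0) (hy : Q y = 0) (hwx : polar Q w x = 0) (hwy : polar Q w y = 0)
    (hxy : polar Q x y ≠ 0) (hw0 : w ≠ 0) {s t : ↥(E Q)} (ht : (t : V ≃ₗ[F] V) = siegel Q w x hw hwx)
    (hs : (s : V ≃ₗ[F] V) = siegel Q w y hw hwy) :
    (Fintype.card F ^ 2 - 1) * Fintype.card F ^ (2 * l - 4) ≤
      (centralizer ({s} : Set ↥(E Q))).relIndex (centralizer ({t} : Set ↥(E Q))) := by
  have hQ := hG.nondeg
  have hyw : polar Q y w = 0 := by rw [polar_comm]; exact hwy
  have hxw : polar Q x w = 0 := by rw [polar_comm]; exact hwx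
  have hx0 : x ≠ 0 := by rintro rfl; exact hxy (polar_zero_left Q y)
  have hnx : ∀ c : F, x ≠ c • w := by
    rintro c rfl
    apply hxy
    rw [polar_smul_left, hwy, smul_zero]
  have hnw : ∀ c : F, w ≠ c • x := by
    intro c h
    have hc : c ≠ 0 := by rintro rfl; rw [zero_smul] at h; exact hw0 h
    apply hnx c⁻¹
    rw [h, smul_smul, inv_mul_cancel₀ hc, one_smul]
  obtain ⟨w', h1, h2⟩ := exists_sep hQ hnw
  obtain ⟨x', h3, h4⟩ := exists_sep hQ hnx
  have hli : ∀ a b : F, a • w + b • x = 0 → a = 0 ∧ b = 0 := by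
    intro a b h
    constructor
    · have := congrArg (fun v => polar Q v w') h
      simpa [polar_add_left, polar_smul_left, h1, h2] using this
    · have := congrArg (fun v => polar Q v x') h
      simpa [polar_add_left, polar_smul_left, h3, h4] using this
  -- the complement of `⟨w, x⟩` in its orthogonal space
  let fn : V →ₗ[F] (Fin 4 → F) := LinearMap.pi fun i => polarBilin Q (![w, x, w', x'] i)
  let X : Submodule F V := LinearMap.ker fn
  have hX : ∀ v ∈ X, polar Q w v = 0 ∧ polar Q x v = 0 ∧ polar Q w' v = 0 ∧ polar Q x' v = 0 := by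
    intro v hv
    have hv' : fn v = 0 := hv
    refine ⟨?_, ?_, ?_, ?_⟩
    · exact congrFun hv' 0
    · exact congrFun hv' 1
    · exact congrFun hv' 2
    · exact congrFun hv' 3
  have hXd : 2 * l - 4 ≤ finrank F X := by
    have e := LinearMap.finrank_range_add_finrank_ker fn
    have e2 := Submodule.finrank_le (LinearMap.range fn)
    rw [finrank_fin_fun] at e2
    have e3 : finrank F X = finrank F (LinearMap.ker fn) := rfl
    omega
  have hXc : Fintype.card F ^ (2 * l - 4) ≤ Nat.card X := by
    rw [Module.natCard_eq_pow_finrank (K := F), Nat.card_eq_fintype_card]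
    exact Nat.pow_le_pow_right Fintype.card_pos hXd
  -- the family
  have hg := fun p : {p : F × F // p ≠ 0} => exists_sl hw hx hwx h1 h2 h3 h4 p.1.1 p.1.2 (by
    by_contra hcon
    push Not at hcon
    exact p.2 (Prod.ext hcon.1 hcon.2))
  choose g hgE γ δ hg1 hg2 hg3 using hg
  obtain ⟨r, hr⟩ : ∃ r : X → V ≃ₗ[F] V, ∀ v, r v = siegel Q x (v : V) hx (hX _ v.2).2.1 :=
    ⟨fun v => siegel Q x (v : V) hx (hX _ v.2).2.1, fun _ => rfl⟩
  have hrE : ∀ v, r v ∈ E Q := fun v => by rw [hr]; exact siegel_mem_E _ _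
  have hr1 : ∀ v, r v w = w := by
    intro v
    rw [hr, siegel_apply, hxw, polar_comm Q (v : V) w, (hX _ v.2).1]
    simp
  have hr2 : ∀ v, r v x = x := by
    intro v
    rw [hr, siegel_apply, polar_self_of_sing hx, polar_comm Q (v : V) x, (hX _ v.2).2.1]
    simp
  let k : {p : F × F // p ≠ 0} × X → V ≃ₗ[F] V := fun i => g i.1 * r i.2
  have hkE : ∀ i, k i ∈ E Q := fun i => E_mul (hgE _) (hrE _)
  have hk1 : ∀ i, k i w = i.1.1.1 • w + i.1.1.2 • x := by
    intro i
    show g i.1 (r i.2 w) = _
    rw [hr1, hg1]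
  have hk2 : ∀ i, k i x = γ i.1 • w + δ i.1 • x := by
    intro i
    show g i.1 (r i.2 x) = _
    rw [hr2, hg2]
  let f : {p : F × F // p ≠ 0} × X → ↥(E Q) := fun i => ⟨k i, hkE i⟩
  have hcard : Nat.card ({p : F × F // p ≠ 0} × X) = (Fintype.card F ^ 2 - 1) * Nat.card X := by
    rw [Nat.card_prod]
    congr 1
    classical
    rw [Nat.card_eq_fintype_card, Fintype.card_subtype_compl, Fintype.card_subtype_eq,
      Fintype.card_prod, _root_.sq]
  have : Finite (V ≃ₗ[F] V) := Finite.of_injective (fun g : V ≃ₗ[F] V => (g : V → V))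
    DFunLike.coe_injective
  refine le_trans ?_ (card_le_relIndex s t f ?_ ?_)
  · rw [hcard]
    exact Nat.mul_le_mul_left _ hXc
  · intro i
    apply Subtype.ext
    show k i * (t : V ≃ₗ[F] V) = (t : V ≃ₗ[F] V) * k i
    rw [ht, ← mul_inv_eq_iff_eq_mul]
    exact siegel_comm hw hx hwx (E_le_O (hkE i)) (hk1 i) (hk2 i) (hg3 i.1)
  · intro i j hij
    have hij' : k i * siegel Q w y hw hwy * (k i)⁻¹ = k j * siegel Q w y hw hwy * (k j)⁻¹ := by
      rw [← hs]
      exact congrArg Subtype.val hij
    obtain ⟨a1, a2⟩ := conj_val hw hx hy hwx hwy (E_le_O (hkE i)) (hk1 i) (hk2 i) (hg3 i.1)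
    obtain ⟨b1, b2⟩ := conj_val hw hx hy hwx hwy (E_le_O (hkE j)) (hk1 j) (hk2 j) (hg3 j.1)
    rw [hij', b1] at a1
    rw [hij', b2] at a2
    have c1 : j.1.1.2 = i.1.1.2 := by
      have := (hli (j.1.1.2 * polar Q x y * j.1.1.1 - i.1.1.2 * polar Q x y * i.1.1.1)
        (j.1.1.2 * polar Q x y * j.1.1.2 - i.1.1.2 * polar Q x y * i.1.1.2) (by
          have e := sub_eq_zero.2 a1
          rw [← e]
          module)).2
      have e2 : polar Q x y * (j.1.1.2 ^ 2 - i.1.1.2 ^ 2) = 0 := by linear_combination this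
      have e3 := (mul_eq_zero.1 e2).resolve_left hxy
      have e4 := sub_eq_zero.1 e3
      exact frobenius_inj F 2 (by simpa [frobenius_def] using e4)
    have c2 : j.1.1.1 = i.1.1.1 := by
      have := (hli (j.1.1.1 * polar Q x y * j.1.1.1 - i.1.1.1 * polar Q x y * i.1.1.1)
        (j.1.1.1 * polar Q x y * j.1.1.2 - i.1.1.1 * polar Q x y * i.1.1.2) (by
          have e := sub_eq_zero.2 a2
          rw [← neg_eq_zero, ← e]
          module)).1
      have e2 : polar Q x y * (j.1.1.1 ^ 2 - i.1.1.1 ^ 2) = 0 := by linear_combination this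
      have e3 := (mul_eq_zero.1 e2).resolve_left hxy
      have e4 := sub_eq_zero.1 e3
      exact frobenius_inj F 2 (by simpa [frobenius_def] using e4)
    have c3 : i.1 = j.1 := Subtype.ext (Prod.ext c2.symm c1.symm)
    -- cancel `g`
    have d1 : r i.2 * siegel Q w y hw hwy * (r i.2)⁻¹ = r j.2 * siegel Q w y hw hwy * (r j.2)⁻¹ := by
      have e : g i.1 * (r i.2 * siegel Q w y hw hwy * (r i.2)⁻¹) * (g i.1)⁻¹ =
          g i.1 * (r j.2 * siegel Q w y hw hwy * (r j.2)⁻¹) * (g i.1)⁻¹ := by
        have e1 : k i * siegel Q w y hw hwy * (k i)⁻¹ =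
            g i.1 * (r i.2 * siegel Q w y hw hwy * (r i.2)⁻¹) * (g i.1)⁻¹ := by
          show g i.1 * r i.2 * siegel Q w y hw hwy * (g i.1 * r i.2)⁻¹ = _
          group
        have e2 : k j * siegel Q w y hw hwy * (k j)⁻¹ =
            g i.1 * (r j.2 * siegel Q w y hw hwy * (r j.2)⁻¹) * (g i.1)⁻¹ := by
          show g j.1 * r j.2 * siegel Q w y hw hwy * (g j.1 * r j.2)⁻¹ = _
          rw [c3]
          group
        rw [← e1, ← e2, hij']
      exact mul_left_cancel (mul_right_cancel e)
    rw [siegel_conj (E_le_O (hrE _)) hw hwy (by rw [hr1]; exact hw)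
        (by rw [polar_map (E_le_O (hrE _))]; exact hwy),
      siegel_conj (E_le_O (hrE _)) hw hwy (by rw [hr1]; exact hw)
        (by rw [polar_map (E_le_O (hrE _))]; exact hwy)] at d1
    have d2 := LinearEquiv.congr_fun d1 w'
    rw [siegel_apply, siegel_apply, hr1, hr1, h2, mem_O.1 (E_le_O (hrE _)),
      mem_O.1 (E_le_O (hrE _)), hy] at d2
    have ry : ∀ v : X, r v y = y + polar Q x y • (v : V) - polar Q (v : V) y • x
        - (Q (v : V) * polar Q x y) • x := fun v => by rw [hr, siegel_apply]
    have d3 : polar Q x y • ((i.2 : V) - (j.2 : V)) =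
        (polar Q (r i.2 y) w' - polar Q (r j.2 y) w') • w +
        (polar Q (i.2 : V) y - polar Q (j.2 : V) y + (Q (i.2 : V) - Q (j.2 : V)) * polar Q x y) • x := by
      have e : r i.2 y - r j.2 y = (polar Q (r i.2 y) w' - polar Q (r j.2 y) w') • w := by
        have := sub_eq_zero.2 d2
        rw [← sub_eq_zero, ← this]
        module
      have e5 : r i.2 y - r j.2 y = polar Q x y • ((i.2 : V) - (j.2 : V)) -
        (polar Q (i.2 : V) y - polar Q (j.2 : V) y + (Q (i.2 : V) - Q (j.2 : V)) * polar Q x y) • x := by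
        rw [ry, ry]
        module
      rw [e5] at e
      rw [← e]
      module
    set a := polar Q (r i.2 y) w' - polar Q (r j.2 y) w'
    set b := polar Q (i.2 : V) y - polar Q (j.2 : V) y + (Q (i.2 : V) - Q (j.2 : V)) * polar Q x y
    have f1 : a = 0 := by
      have := congrArg (fun v => polar Q w' v) d3
      simp only [polar_smul_right, polar_sub_right, polar_add_right, (hX _ i.2.2).2.2.1,
        (hX _ j.2.2).2.2.1, polar_comm Q w' w, polar_comm Q w' x, h1, h2, smul_eq_mul] at this
      simpa using this.symm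
    have f2 : b = 0 := by
      have := congrArg (fun v => polar Q x' v) d3
      simp only [polar_smul_right, polar_sub_right, polar_add_right, (hX _ i.2.2).2.2.2,
        (hX _ j.2.2).2.2.2, polar_comm Q x' w, polar_comm Q x' x, h3, h4, smul_eq_mul] at this
      simpa using this.symm
    rw [f1, f2, zero_smul, zero_smul, add_zero] at d3
    have d4 := (smul_eq_zero.1 d3).resolve_left hxy
    exact Prod.ext c3 (Subtype.ext (sub_eq_zero.1 d4))


end Cfsg.Agent.H881.IFE
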